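import Mathlib.LinearAlgebra.FreeModule.PID
import Mathlib.RingTheory.PrincipalIdealDomain
import Mathlib.RingTheory.Length
import Mathlib.RingTheory.SimpleModule.Basic
import Mathlib.LinearAlgebra.StdBasis

/-! Adapted bases for submodules between `ϖM` and `M`. -/

namespace Groth.Agent.FinLenLib

variable {R : Type*} [CommRing R] [IsDomain R] [IsPrincipalIdealRing R]
variable {M : Type*} [AddCommGroup M] [Module R M] [Module.Free R M] [Module.Finite R M]

/-- A basis adapted to a submodule containing `ϖ M`. -/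
theorem exists_adapted {ϖ : R} (hϖ : Irreducible ϖ) (S : Submodule R M) (hS : ∀ m : M, ϖ • m ∈ S) :
    ∃ (b : Module.Basis (Fin (Module.finrank R M)) R M) (U : Finset (Fin (Module.finrank R M))),
      ∀ x, x ∈ S ↔ ∀ j ∉ U, ϖ ∣ b.repr x j := by
  classical
  obtain ⟨n, bM, bN, f, a, snf⟩ := S.smithNormalForm (Module.finBasis R M)
  let s : Fin (Module.finrank R M) → R := Function.extend f a 0
  have hs : ∀ i, s (f i) = a i := f.injective.extend_apply a 0
  have hs0 : ∀ j, (¬ ∃ i, f i = j) → s j = 0 := fun j hj => Function.extend_apply' _ _ _ hj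
  have hmem : ∀ x, x ∈ S ↔ ∀ j, s j ∣ bM.repr x j := by
    intro x
    constructor
    · intro hx j
      have hx' : x = ∑ i, bN.repr ⟨x, hx⟩ i • (a i • bM (f i)) := by
        have h1 := congrArg (fun y : S => (y : M)) (bN.sum_repr ⟨x, hx⟩)
        simp only [Submodule.coe_sum, Submodule.coe_smul, snf] at h1
        exact h1.symm
      rw [hx', map_sum, Finsupp.finsetSum_apply]
      refine Finset.dvd_sum fun i _ => ?_
      simp only [map_smul, Module.Basis.repr_self, Finsupp.smul_apply, smul_eq_mul, Finsupp.single_apply]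
      split_ifs with h
      · rw [← h, hs, mul_one]
        exact dvd_mul_left _ _
      · simp
    · intro hx
      rw [← bM.sum_repr x]
      refine Submodule.sum_mem _ fun j _ => ?_
      obtain ⟨c, hc⟩ := hx j
      by_cases hj : ∃ i, f i = j
      · obtain ⟨i, rfl⟩ := hj
        rw [hc, hs, mul_comm, mul_smul, ← snf i]
        exact Submodule.smul_mem _ _ (bN i).2
      · rw [hc, hs0 j hj, zero_mul, zero_smul]
        exact zero_mem _
  have hdvd : ∀ j, s j ∣ ϖ := fun j => by simpa using (hmem _).1 (hS (bM j)) j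
  refine ⟨bM, Finset.univ.filter fun j => IsUnit (s j), fun x => (hmem x).trans ⟨fun h j hj => ?_, fun h j => ?_⟩⟩
  · rw [Finset.mem_filter, not_and] at hj
    exact (((hϖ.dvd_iff.1 (hdvd j)).resolve_left (hj (Finset.mem_univ j))).dvd_iff_dvd_left (c := bM.repr x j)).2 (h j)
  · by_cases hj : IsUnit (s j)
    · exact hj.dvd
    · exact (((hϖ.dvd_iff.1 (hdvd j)).resolve_left hj).dvd_iff_dvd_left (c := bM.repr x j)).1
        (h j (fun h' => hj (Finset.mem_filter.1 h').2))

theorem length_quotient_span_irreducible {ϖ : R} (hϖ : Irreducible ϖ) :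
    Module.length R (R ⧸ Ideal.span {ϖ}) = 1 := by
  have : (Ideal.span {ϖ}).IsMaximal := PrincipalIdealRing.isMaximal_of_irreducible hϖ
  rw [Module.length_eq_one_iff, isSimpleModule_iff_isCoatom]
  exact Ideal.isMaximal_def.1 this

/-- Length of the quotient by an adapted submodule. -/
theorem length_quotient_adapted {ι : Type*} [Fintype ι] [DecidableEq ι] {ϖ : R} (hϖ : Irreducible ϖ) (b : Module.Basis ι R M)
    (U : Finset ι) (S : Submodule R M) (hS : ∀ x, x ∈ S ↔ ∀ j ∉ U, ϖ ∣ b.repr x j) :
    Module.length R (M ⧸ S) = ((Fintype.card ι - U.card : ℕ) : ℕ∞) := by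
  let f : M →ₗ[R] ({j // j ∉ U} → R ⧸ Ideal.span {ϖ}) :=
    LinearMap.pi fun j => (Ideal.span {ϖ}).mkQ.comp ((LinearMap.proj j.1).comp b.equivFun.toLinearMap)
  have hf : Function.Surjective f := fun g => by
    choose c hc using fun j => (Ideal.span {ϖ}).mkQ_surjective (g j)
    refine ⟨b.equivFun.symm fun j => if h : j ∈ U then 0 else c ⟨j, h⟩, funext fun j => ?_⟩
    simp only [f, LinearMap.pi_apply, LinearMap.comp_apply, LinearEquiv.coe_coe, LinearEquiv.apply_symm_apply,
      LinearMap.proj_apply, dif_neg j.2, Subtype.coe_eta]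
    exact hc j
  have hk : LinearMap.ker f = S := by
    ext x
    rw [LinearMap.mem_ker, hS]
    constructor
    · intro h j hj
      exact Ideal.mem_span_singleton.1 ((Submodule.Quotient.mk_eq_zero _).1 (congrFun h ⟨j, hj⟩))
    · intro h
      exact funext fun j => (Submodule.Quotient.mk_eq_zero _).2 (Ideal.mem_span_singleton.2 (h j.1 j.2))
  rw [((Submodule.quotEquivOfEq _ _ hk.symm).trans (f.quotKerEquivOfSurjective hf)).length_eq, Module.length_pi_of_fintype]
  simp [length_quotient_span_irreducible hϖ, Fintype.card_subtype_compl]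

end Groth.Agent.FinLenLib
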