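import Mathlib.RingTheory.Length
import Mathlib.RingTheory.FiniteLength
import Mathlib.RingTheory.Nakayama
import Mathlib.Algebra.Module.PID
import Mathlib.LinearAlgebra.Projection
import Mathlib.Algebra.Module.Submodule.Map

/-! Finite length modules: semilinear invariance of length, pure submodules over a PID. -/

namespace Groth.Agent.FinLenLib

/-- A bijective semilinear map along a surjective ring hom preserves length. -/
theorem length_eq_of_semilinear {R S M N : Type*} [Ring R] [Ring S] {σ : R →+* S} [RingHomSurjective σ]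
    [AddCommGroup M] [Module R M] [AddCommGroup N] [Module S N] (f : M →ₛₗ[σ] N) (hf : Function.Bijective f) :
    Module.length R M = Module.length S N := by
  apply WithBot.coe_injective
  rw [Module.coe_length, Module.coe_length, Order.krullDim_eq_of_orderIso (Submodule.orderIsoMapComapOfBijective f hf)]

variable {R : Type*} [CommRing R]

/-- The multiples `a • M`. -/
def mults (a : R) (M : Type*) [AddCommGroup M] [Module R M] : Submodule R M :=
  LinearMap.range (a • (LinearMap.id : M →ₗ[R] M))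

theorem mem_mults {a : R} {M : Type*} [AddCommGroup M] [Module R M] {x : M} :
    x ∈ mults a M ↔ ∃ y, a • y = x := Iff.rfl

theorem length_pi_quot_mults {ι : Type*} [Fintype ι] (N : ι → Type*) [∀ i, AddCommGroup (N i)] [∀ i, Module R (N i)]
    (a : R) : Module.length R ((∀ i, N i) ⧸ mults a (∀ i, N i)) = ∑ i, Module.length R (N i ⧸ mults a (N i)) := by
  let f : (∀ i, N i) →ₗ[R] ∀ i, N i ⧸ mults a (N i) := LinearMap.piMap fun i => (mults a (N i)).mkQ
  have hf : Function.Surjective f := fun g => by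
    choose y hy using fun i => Submodule.mkQ_surjective (mults a (N i)) (g i)
    exact ⟨y, funext hy⟩
  have hk : LinearMap.ker f = mults a (∀ i, N i) := by
    ext x
    rw [LinearMap.mem_ker, mem_mults]
    constructor
    · intro hx
      choose y hy using fun i => mem_mults.1 ((Submodule.Quotient.mk_eq_zero _).1 (congrFun hx i))
      exact ⟨y, funext hy⟩
    · rintro ⟨y, rfl⟩
      exact funext fun i => (Submodule.Quotient.mk_eq_zero _).2 ⟨y i, rfl⟩
  rw [← Module.length_pi_of_fintype R fun i => N i ⧸ mults a (N i)]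
  exact ((Submodule.quotEquivOfEq _ _ hk.symm).trans (f.quotKerEquivOfSurjective hf)).length_eq

theorem exists_pow_smul_eq_zero {ϖ : R} (hϖ : ϖ ∈ (⊥ : Ideal R).jacobson) {M : Type*} [AddCommGroup M] [Module R M]
    (hM : IsFiniteLength R M) : ∃ c : ℕ, ∀ x : M, ϖ ^ c • x = 0 := by
  obtain ⟨_, _⟩ := isFiniteLength_iff_isNoetherian_isArtinian.1 hM
  obtain ⟨c, hc⟩ := IsArtinian.monotone_stabilizes (⟨fun n => OrderDual.toDual (mults (ϖ ^ n) M), fun m n h => by
    rintro x ⟨y, rfl⟩
    exact ⟨ϖ ^ (n - m) • y, by simp [smul_smul, ← pow_add, Nat.add_sub_cancel' h, Nat.sub_add_cancel h]⟩⟩ : ℕ →o (Submodule R M)ᵒᵈ)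
  have h1 : mults (ϖ ^ c) M = mults (ϖ ^ (c + 1)) M := OrderDual.toDual.injective (hc (c + 1) (Nat.le_succ c))
  refine ⟨c, fun x => ?_⟩
  have h0 : mults (ϖ ^ c) M = ⊥ := by
    refine Submodule.eq_bot_of_le_smul_of_le_jacobson_bot (Ideal.span {ϖ}) _ (IsNoetherian.noetherian _) ?_ ?_
    · intro y hy
      rw [h1, mem_mults] at hy
      obtain ⟨z, rfl⟩ := hy
      rw [pow_succ', mul_smul]
      exact Submodule.smul_mem_smul (Ideal.mem_span_singleton_self ϖ) ⟨z, rfl⟩
    · rw [Ideal.span_le, Set.singleton_subset_iff, SetLike.mem_coe]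
      exact hϖ
  exact (Submodule.mem_bot R).1 (h0 ▸ (⟨x, rfl⟩ : ϖ ^ c • x ∈ mults (ϖ ^ c) M))

theorem exists_isCompl_of_pure [IsDomain R] [IsPrincipalIdealRing R] {ϖ : R} (hϖ : Irreducible ϖ) {M : Type*}
    [AddCommGroup M] [Module R M] [Module.Finite R M] {c : ℕ} (hc : ∀ x : M, ϖ ^ c • x = 0) (S : Submodule R M)
    (hS : ∀ (k : ℕ) (y : M), ϖ ^ k • y ∈ S → ∃ s ∈ S, ϖ ^ k • s = ϖ ^ k • y) :
    ∃ Q, IsCompl S Q := by
  classical
  have hT : Module.IsTorsion' (M ⧸ S) (Submonoid.powers ϖ) := by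
    intro q
    obtain ⟨x, rfl⟩ := S.mkQ_surjective q
    exact ⟨⟨ϖ ^ c, ⟨c, rfl⟩⟩, by show ϖ ^ c • S.mkQ x = 0; rw [← map_smul, hc, map_zero]⟩
  obtain ⟨d, k, ⟨e⟩⟩ := Module.torsion_by_prime_power_decomposition hϖ hT
  have hl : ∀ i, ∃ y : M, ϖ ^ k i • y = 0 ∧ S.mkQ y = e.symm (DirectSum.lof R _ (fun i => R ⧸ R ∙ ϖ ^ k i) i (Submodule.Quotient.mk 1)) := by
    intro i
    obtain ⟨y, hy⟩ := S.mkQ_surjective (e.symm (DirectSum.lof R _ (fun i => R ⧸ R ∙ ϖ ^ k i) i (Submodule.Quotient.mk 1)))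
    have hmem : ϖ ^ k i • y ∈ S := by
      rw [← Submodule.Quotient.mk_eq_zero, Submodule.Quotient.mk_smul]
      show ϖ ^ k i • S.mkQ y = 0
      rw [hy, ← map_smul, ← map_smul, ← Submodule.Quotient.mk_smul,
        (Submodule.Quotient.mk_eq_zero _).2 (Submodule.mem_span_singleton.2 ⟨1, by simp⟩), map_zero, map_zero]
    obtain ⟨s, hs, hs'⟩ := hS _ y hmem
    exact ⟨y - s, by rw [smul_sub, hs', sub_self], by rw [map_sub, hy, Submodule.mkQ_apply _ s,
      (Submodule.Quotient.mk_eq_zero S).2 hs, sub_zero]⟩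
  choose y hy hy' using hl
  let g : (DirectSum (Fin d) fun i => R ⧸ R ∙ ϖ ^ k i) →ₗ[R] M :=
    DirectSum.toModule R _ M fun i => (R ∙ ϖ ^ k i).liftQ (LinearMap.toSpanSingleton R M (y i)) (by
      rw [Submodule.span_le, Set.singleton_subset_iff, SetLike.mem_coe, LinearMap.mem_ker,
        LinearMap.toSpanSingleton_apply, hy])
  have hsec : S.mkQ.comp (g.comp e.toLinearMap) = LinearMap.id := by
    have h1 : S.mkQ.comp g = e.symm.toLinearMap := by
      refine DirectSum.linearMap_ext R fun i => Submodule.linearMap_qext _ (LinearMap.ext_ring ?_)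
      simp only [g, LinearMap.comp_apply, DirectSum.toModule_lof, Submodule.mkQ_apply, LinearEquiv.coe_coe]
      rw [← hy' i, Submodule.mkQ_apply]
      erw [Submodule.liftQ_apply]
      simp
    rw [← LinearMap.comp_assoc, h1]
    exact LinearMap.ext fun x => e.symm_apply_apply x
  refine ⟨LinearMap.range (g.comp e.toLinearMap), ⟨Submodule.disjoint_def.2 fun x hx hx' => ?_, ?_⟩⟩
  · obtain ⟨q, rfl⟩ := hx'
    have := LinearMap.congr_fun hsec q
    rw [LinearMap.comp_apply, Submodule.mkQ_apply, (Submodule.Quotient.mk_eq_zero S).2 hx, LinearMap.id_apply] at this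
    rw [← this, map_zero]
  · rw [codisjoint_iff, eq_top_iff]
    intro x _
    refine Submodule.mem_sup.2 ⟨x - g.comp e.toLinearMap (S.mkQ x), ?_, _, ⟨_, rfl⟩, sub_add_cancel _ _⟩
    rw [← Submodule.Quotient.mk_eq_zero]
    show S.mkQ _ = 0
    rw [map_sub]
    exact sub_eq_zero.2 (LinearMap.congr_fun hsec _).symm

end Groth.Agent.FinLenLib
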